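import Groth.Agent.Lib.AttrBorel21.MaxTori
import Groth.Agent.Lib.AttrBorel21.TorusGen
import Groth.Agent.Lib.TorPts21.MaximalTorusClosed
import Groth.Agent.Lib.TorusCentr19.Norm
import Groth.Agent.Lib.TorusHom19.Basic
import Groth.Agent.Lib.MTRigid29.SubgrpEqvGlobal
import Groth.Prelude.Def_SGA3x

/-!
# Centralisers of maximal tori over a base
-/

set_option autoImplicit false
set_option linter.style.haveILetI false
set_option linter.unusedSectionVars false
set_option backward.isDefEq.respectTransparency.types false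

universe u

open CategoryTheory Limits MonoidalCategory CartesianMonoidalCategory MonObj AlgebraicGeometry

noncomputable section

namespace Groth.Agent.CartanRel21

open DiagGL MTRigid29

variable {S : Scheme.{u}} {G H Z : Over S} [GrpObj G] [GrpObj H] [GrpObj Z]

/-- Centralisers commute with base change. -/
theorem isCentralizerOf_bc {u : H ⟶ G} {j : Z ⟶ G} (h : Red.IsCentralizerOf u j) {S' : Scheme.{u}} (f : S' ⟶ S) :
    Red.IsCentralizerOf ((Over.pullback f).map u) ((Over.pullback f).map j) := by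
  obtain ⟨hm, hmono, hiff⟩ := h
  haveI := hm
  haveI := hmono
  refine ⟨isMonHom_map j f, Functor.map_mono _ _, fun X g => ⟨?_, fun hg => ?_⟩⟩
  · rintro ⟨z, rfl⟩ X' x a
    refine fl_injective f G ?_
    rw [fl_mul, fl_mul, fl_comp_map, ← Category.assoc x z, fl_comp_map, ← Category.id_comp (fl f Z (x ≫ z) ≫ j)]
    exact (hiff _ (fl f Z (x ≫ z) ≫ j)).1 ⟨_, rfl⟩ _ (𝟙 _) (fl f H a)
  · obtain ⟨z, hz⟩ := (hiff _ (fl f G g)).2 fun X' s a => by
      let X₁ : Over S' := Over.mk (s.left ≫ X.hom)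
      let x : X₁ ⟶ X := Over.homMk s.left rfl
      let i : (Over.map f).obj X₁ ≅ X' := Over.isoMk (Iso.refl _) (by
        show 𝟙 _ ≫ X'.hom = (s.left ≫ X.hom) ≫ f
        rw [Category.id_comp, Category.assoc]
        exact (Over.w s).symm)
      obtain ⟨a₁, ha₁⟩ := fl_surjective f H (i.hom ≫ a)
      have hs : (Over.map f).map x = i.hom ≫ s := Over.OverMorphism.ext (Category.id_comp _).symm
      have h := congrArg (fl f G) (hg X₁ x a₁)
      rw [fl_mul, fl_mul, fl_comp_map, ha₁, fl_comp, hs, Category.assoc, Category.assoc, ← MonObj.comp_mul,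
        ← MonObj.comp_mul] at h
      exact (cancel_epi i.hom).1 h
    obtain ⟨z', rfl⟩ := fl_surjective f Z z
    exact ⟨z', fl_injective f G (by rw [fl_comp_map, hz])⟩

variable {T T' : Over S} [GrpObj T] [GrpObj T']

/-- The geometric fibre of a maximal torus is a maximal torus. -/
theorem isMaxTorus_geom {i : T ⟶ G} (hT : Red.IsMaximalTorus i) (s : S) :
    AGF.IsMaxTorus ((Over.pullback (Red.geomPt s)).map i) := by
  obtain ⟨hm, hmono, htor, hmax⟩ := hT
  haveI := hm
  haveI := hmono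
  exact ⟨isMonHom_map i _, Functor.map_mono _ _, TorusHom19.isTorus_bc htor _,
    fun T' _ j _ _ f hT' hf => hmax s T' j f hT' hf⟩

set_option maxHeartbeats 1000000 in
/-- Two commuting maximal tori, one of which is central, agree over every geometric point. -/
theorem eqv_geom [LocallyOfFiniteType G.hom] {i : T ⟶ G} {j : T' ⟶ G} (hT : Red.IsMaximalTorus i)
    (hT' : Red.IsMaximalTorus j) [Mono i.left] [Mono j.left]
    (hc : ∀ (X : Over S) (g : X ⟶ G) (h : X ⟶ T), g * (h ≫ i) = (h ≫ i) * g) (s : S) :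
    Eqv i j (Red.geomPt s) := by
  haveI := hT.1
  haveI := hT'.1
  haveI := isMonHom_map i (Red.geomPt s)
  haveI := isMonHom_map j (Red.geomPt s)
  haveI : LocallyOfFiniteType (Red.bc (Red.geomPt s) G).hom :=
    inferInstanceAs (LocallyOfFiniteType (pullback.snd G.hom (Red.geomPt s)))
  have h₁ := isMaxTorus_geom hT s
  have h₂ := isMaxTorus_geom hT' s
  obtain ⟨R, _, m, f₁, f₂, hm, hmono, hR, hf₁, hf₂⟩ := AttrBorel21.exists_torus_ge_of_commute h₁.2.2.1 h₂.2.2.1
    ((Over.pullback (Red.geomPt s)).map i) ((Over.pullback (Red.geomPt s)).map j) fun X x y =>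
      fl_injective (Red.geomPt s) G (by rw [fl_mul, fl_mul, fl_comp_map, fl_comp_map, hc])
  haveI := hm
  haveI := hmono
  haveI : IsIso f₁ := h₁.2.2.2 R m f₁ hR hf₁
  haveI : IsIso f₂ := h₂.2.2.2 R m f₂ hR hf₂
  refine (eqv_iff_exists_iso i j (Red.geomPt s)).2 ⟨asIso f₁ ≪≫ (asIso f₂).symm, ?_⟩
  rw [← hf₂, ← hf₁]
  simp

/-- Lifts descend along the base change by the identity. -/
theorem exists_lift_of_bc_id' {X Y W : Over S} [GrpObj X] [GrpObj Y] [GrpObj W] (i : Y ⟶ W) (g : X ⟶ W)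
    (f : Red.bc (𝟙 S) X ⟶ Red.bc (𝟙 _) Y)
    (hf : f ≫ (Over.pullback (𝟙 _)).map i = (Over.pullback (𝟙 _)).map g) : ∃ f₀ : X ⟶ Y, f₀ ≫ i = g := by
  let ι₀ : (Over.map (𝟙 S)).obj X ≅ X := Over.isoMk (Iso.refl _) (by
    show 𝟙 _ ≫ X.hom = X.hom ≫ 𝟙 S
    rw [Category.id_comp, Category.comp_id])
  obtain ⟨g₀, hg₀⟩ := fl_surjective (𝟙 S) X (T := X) ι₀.hom
  refine ⟨ι₀.inv ≫ fl (𝟙 S) Y (g₀ ≫ f), ?_⟩
  rw [Category.assoc, ← DiagGL.fl_comp_map, Category.assoc, hf, DiagGL.fl_comp_map, hg₀, Iso.inv_hom_id_assoc]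

set_option maxHeartbeats 1000000 in
/-- A central maximal torus is the only maximal torus. -/
theorem exists_iso_of_central [LocallyOfFiniteType G.hom] [IsSeparated G.hom] {i : T ⟶ G} {j : T' ⟶ G}
    (hT : Red.IsMaximalTorus i) (hT' : Red.IsMaximalTorus j)
    (hc : ∀ (X : Over S) (g : X ⟶ G) (h : X ⟶ T), g * (h ≫ i) = (h ≫ i) * g) :
    ∃ φ : T' ≅ T, φ.hom ≫ i = j := by
  haveI := hT.1
  haveI := hT'.1
  haveI := hT.2.1
  haveI := hT'.2.1
  haveI : Mono i.left := Over.mono_left_of_mono i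
  haveI : Mono j.left := Over.mono_left_of_mono j
  obtain ⟨U, -, hU, hUe⟩ := good_id (i₁ := i) (i₂ := j)
    ⟨inferInstance, inferInstance, inferInstance, inferInstance, isMultTypeFT_of_torus hT.2.2.1,
      isMultTypeFT_of_torus hT'.2.2.1, hc, pairFG_of_base i j (.inr inferInstance)⟩
  have hall : ∀ s : S, s ∈ U := fun s => by
    rw [hU, Category.comp_id]
    let q : Spec (CommRingCat.of (AlgebraicClosure (S.residueField s))) ⟶ Spec (S.residueField s) :=
      Spec.map (CommRingCat.ofHom (algebraMap (S.residueField s) (AlgebraicClosure (S.residueField s))))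
    haveI : Surjective q := ⟨fun p => ⟨IsLocalRing.closedPoint (AlgebraicClosure (S.residueField s)), Subsingleton.elim _ _⟩⟩
    haveI : Flat q := (HasRingHomProperty.Spec_iff (P := @Flat)).2 (RingHom.Flat.of_isField (Field.toIsField _) _)
    exact eqv_of_flat_cover i j q (eqv_geom hT hT' hc s)
  rw [Category.comp_id] at hUe
  have hE : Eqv i j (𝟙 S) := eqv_of_cover i j (𝟙 S) fun x =>
    ⟨_, U.ι, inferInstance, ⟨⟨x, hall x⟩, rfl⟩, by rw [Category.comp_id]; exact hUe⟩
  obtain ⟨ψ, hψ⟩ := (eqv_iff_exists_iso i j (𝟙 S)).1 hE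
  obtain ⟨a, ha⟩ := exists_lift_of_bc_id' j i ψ.hom hψ
  obtain ⟨b, hb⟩ := exists_lift_of_bc_id' i j ψ.inv (by rw [← hψ, Iso.inv_hom_id_assoc])
  exact ⟨⟨b, a, (cancel_mono j).1 (by rw [Category.assoc, ha, hb, Category.id_comp]),
    (cancel_mono i).1 (by rw [Category.assoc, hb, ha, Category.id_comp])⟩, hb⟩

set_option maxHeartbeats 1000000 in
/-- The centraliser of a maximal torus is a Cartan subgroup. -/
theorem exists_centralizer_isCartan [Smooth G.hom] [IsSeparated G.hom] {i : T ⟶ G} (hT : Red.IsMaximalTorus i) :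
    ∃ (C : Over S) (_ : GrpObj C) (c : C ⟶ G), Red.IsCentralizerOf i c ∧ IsClosedImmersion c.left ∧ SGA3x.IsCartan c ∧
      ∃ i' : T ⟶ C, i' ≫ c = i ∧ Red.IsMaximalTorus i' ∧
        ∀ (T' : Over S) [GrpObj T'] (j : T' ⟶ C), Red.IsMaximalTorus j → ∃ φ : T' ≅ T, φ.hom ≫ i' = j := by
  haveI := hT.1
  haveI := hT.2.1
  have hMT := isMultTypeFT_of_torus hT.2.2.1
  obtain ⟨C, _, c, hC, hcc, hCs⟩ := TorusCentr19.exists_centralizer' (isMT_of_ft hMT) ‹_› i
  haveI := hC.1
  haveI := hC.2.1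
  haveI := hcc
  haveI := hCs
  haveI : IsSeparated C.hom := by rw [← Over.w c]; infer_instance
  obtain ⟨i', hi'⟩ := (hC.2.2 T i).2 fun X x h => by
    rw [← MonObj.mul_comp, ← MonObj.mul_comp, commute_of_isMultTypeFT hMT]
  haveI : IsMonHom i' := TorsorSch25.isMonHom_of_points i' fun X a b => (cancel_mono c).1 (by
    rw [MonObj.mul_comp (a ≫ i') (b ≫ i') c, Category.assoc, Category.assoc, Category.assoc, hi', MonObj.mul_comp])
  haveI : Mono (i' ≫ c) := by rw [hi']; infer_instance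
  haveI : Mono i' := mono_of_mono i' c
  have hi'max : Red.IsMaximalTorus i' := ⟨inferInstance, inferInstance, hT.2.2.1, fun s T' _ j _ _ f hT' hf => by
    haveI := isMonHom_map c (Red.geomPt s)
    exact hT.2.2.2 s T' (j ≫ (Over.pullback (Red.geomPt s)).map c) f hT'
      (by rw [← Category.assoc, hf, ← Functor.map_comp, hi'])⟩
  refine ⟨C, inferInstance, c, hC, hcc, ⟨hC.1, hC.2.1, hCs, fun s => ⟨isMonHom_map c _, Functor.map_mono _ _,
      _, inferInstance, (Over.pullback (Red.geomPt s)).map i,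
      AttrBorel21.isMaximalTorus_of_isMaxTorus (isMaxTorus_geom hT s), isCentralizerOf_bc hC _⟩⟩,
    i', hi', hi'max, fun T' _ j hj => exists_iso_of_central hi'max hj fun X g h => (cancel_mono c).1 ?_⟩
  have h1 := (hC.2.2 X (g ≫ c)).1 ⟨g, rfl⟩ X (𝟙 X) h
  rw [MonObj.mul_comp, MonObj.mul_comp, Category.assoc, hi']
  simpa only [Category.id_comp] using h1

end Groth.Agent.CartanRel21
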